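import Cfsg.Agent.OD.Pre
import Cfsg.Agent.H6.Top2
import Cfsg.Agent.H6.F22A.D0
set_option autoImplicit false
set_option maxRecDepth 100000
set_option Elab.async false
set_option linter.all false
namespace CfH6.F22A
open CfH6 MulAction
noncomputable def n0_0 : Net := mkNet (nat_lit 4096) [(nat_lit 2048, k0), (nat_lit 1024, k1), (nat_lit 512, k2), (nat_lit 256, k3), (nat_lit 128, k4), (nat_lit 64, k5), (nat_lit 32, k6), (nat_lit 16, k7), (nat_lit 8, k8), (nat_lit 4, k9), (nat_lit 2, k10)] [(k11, nat_lit 1)]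
noncomputable def n0_1 : Net := mkNet (nat_lit 4096) [(nat_lit 2048, k12), (nat_lit 1024, k13), (nat_lit 512, k14), (nat_lit 256, k15), (nat_lit 128, k16), (nat_lit 64, k17), (nat_lit 32, k18), (nat_lit 16, k19), (nat_lit 8, k20), (nat_lit 4, k21), (nat_lit 2, k22)] [(k23, nat_lit 1)]
noncomputable def n0_2 : Net := mkNet (nat_lit 4096) [(nat_lit 2048, k24), (nat_lit 1024, k25), (nat_lit 512, k26), (nat_lit 256, k27), (nat_lit 128, k28), (nat_lit 64, k29), (nat_lit 32, k30), (nat_lit 16, k31), (nat_lit 8, k32), (nat_lit 4, k33), (nat_lit 2, k34)] [(k35, nat_lit 1)]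
noncomputable def n0_3 : Net := mkNet (nat_lit 4096) [(nat_lit 2048, k36), (nat_lit 1024, k37), (nat_lit 512, k38), (nat_lit 256, k39), (nat_lit 128, k40), (nat_lit 64, k41), (nat_lit 32, k42), (nat_lit 16, k43), (nat_lit 8, k44), (nat_lit 4, k45), (nat_lit 2, k46)] [(k47, nat_lit 1)]
noncomputable def n0_4 : Net := mkNet (nat_lit 4096) [(nat_lit 2048, k48), (nat_lit 1024, k49), (nat_lit 512, k50), (nat_lit 256, k51), (nat_lit 128, k52), (nat_lit 64, k53), (nat_lit 32, k54), (nat_lit 16, k55), (nat_lit 8, k56), (nat_lit 4, k57), (nat_lit 2, k58)] [(k59, nat_lit 1)]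
noncomputable def n0_5 : Net := mkNet (nat_lit 4096) [(nat_lit 2048, k60), (nat_lit 1024, k61), (nat_lit 512, k62), (nat_lit 256, k63), (nat_lit 128, k64), (nat_lit 64, k65), (nat_lit 32, k66), (nat_lit 16, k67), (nat_lit 8, k68), (nat_lit 4, k69), (nat_lit 2, k70)] [(k71, nat_lit 1)]
noncomputable def n0_6 : Net := mkNet (nat_lit 4096) [(nat_lit 2048, k72), (nat_lit 1024, k73), (nat_lit 512, k74), (nat_lit 256, k75), (nat_lit 128, k76), (nat_lit 64, k77), (nat_lit 32, k78), (nat_lit 16, k79), (nat_lit 8, k80), (nat_lit 4, k81), (nat_lit 2, k82)] [(k83, nat_lit 1)]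
noncomputable def n0_7 : Net := mkNet (nat_lit 4096) [(nat_lit 2048, k84), (nat_lit 1024, k85), (nat_lit 512, k86), (nat_lit 256, k87), (nat_lit 128, k88), (nat_lit 64, k89), (nat_lit 32, k90), (nat_lit 16, k91), (nat_lit 8, k92), (nat_lit 4, k93), (nat_lit 2, k94)] [(k95, nat_lit 1)]
noncomputable def n0_8 : Net := mkNet (nat_lit 4096) [(nat_lit 2048, k96), (nat_lit 1024, k97), (nat_lit 512, k98), (nat_lit 256, k99), (nat_lit 128, k100), (nat_lit 64, k101), (nat_lit 32, k102), (nat_lit 16, k103), (nat_lit 8, k104), (nat_lit 4, k105), (nat_lit 2, k106)] [(k107, nat_lit 1)]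
noncomputable def n1_8 : Net := mkNet (nat_lit 4096) [(nat_lit 2048, k108), (nat_lit 1024, k109), (nat_lit 512, k110), (nat_lit 256, k111), (nat_lit 128, k112), (nat_lit 64, k113), (nat_lit 32, k114), (nat_lit 16, k115), (nat_lit 8, k116), (nat_lit 4, k117), (nat_lit 2, k118)] [(k119, nat_lit 1)]
noncomputable def n2_0 : Net := mkNet (nat_lit 160) [(nat_lit 80, k120), (nat_lit 40, k121), (nat_lit 20, k122), (nat_lit 10, k123), (nat_lit 5, (nat_lit 0x840a459358948f83e000f7a10))] [((nat_lit 0x4090a10048028485204a0), nat_lit 1), ((nat_lit 0x5004210942509081294a5290a), nat_lit 1), ((nat_lit 0x20004204a1004042908521484), nat_lit 1), ((nat_lit 0x500000000000000408000280a), nat_lit 1), ((nat_lit 0x40000400), nat_lit 1)]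
noncomputable def n2_1 : Net := mkNet (nat_lit 160) [(nat_lit 80, k124), (nat_lit 40, k125), (nat_lit 20, k126), (nat_lit 10, k127), (nat_lit 5, k128)] [(k129, nat_lit 1), (k130, nat_lit 1), (k131, nat_lit 1), (k132, nat_lit 1), ((nat_lit 0x400000000000000020), nat_lit 1)]
noncomputable def n2_2 : Net := mkNet (nat_lit 160) [(nat_lit 80, k133), (nat_lit 40, k134), (nat_lit 20, k135), (nat_lit 10, k136), (nat_lit 5, k137)] [(k138, nat_lit 1), (k139, nat_lit 1), (k140, nat_lit 1), (k141, nat_lit 1), (k142, nat_lit 1)]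
noncomputable def n2_3 : Net := mkNet (nat_lit 160) [(nat_lit 80, k143), (nat_lit 40, k144), (nat_lit 20, k145), (nat_lit 10, k146), (nat_lit 5, k147)] [(k148, nat_lit 1), (k149, nat_lit 1), (k150, nat_lit 1), (k151, nat_lit 1), (k152, nat_lit 1)]
noncomputable def n2_4 : Net := mkNet (nat_lit 160) [(nat_lit 80, k153), (nat_lit 40, k154), (nat_lit 20, k155), (nat_lit 10, k156), (nat_lit 5, k157)] [(k158, nat_lit 1), (k159, nat_lit 1), (k160, nat_lit 1), (k161, nat_lit 1), (k162, nat_lit 1)]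
noncomputable def n2_5 : Net := mkNet (nat_lit 160) [(nat_lit 80, k163), (nat_lit 40, k164), (nat_lit 20, k165), (nat_lit 10, k166), (nat_lit 5, k167)] [(k168, nat_lit 1), (k169, nat_lit 1), (k170, nat_lit 1), (k171, nat_lit 1), (k172, nat_lit 1)]
noncomputable def n2_6 : Net := mkNet (nat_lit 160) [(nat_lit 80, k173), (nat_lit 40, k174), (nat_lit 20, k175), (nat_lit 10, k176), (nat_lit 5, k177)] [(k178, nat_lit 1), (k179, nat_lit 1), (k180, nat_lit 1), (k181, nat_lit 1), (k182, nat_lit 1)]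
noncomputable def n3_0 : Net := mkNet (nat_lit 96) [(nat_lit 48, (nat_lit 0x908e20001a90908e20001880)), (nat_lit 24, (nat_lit 0x8094068014041360a81360a8)), (nat_lit 12, (nat_lit 0x608608848848100100580580)), (nat_lit 6, (nat_lit 0x208104820410a288a2580c10)), (nat_lit 3, (nat_lit 0x488812200818808024410000))] [((nat_lit 0x200009008209000248000200), nat_lit 1), ((nat_lit 0x480002410000000492000000), nat_lit 1), ((nat_lit 0x200001008000000248000000), nat_lit 1)]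
noncomputable def n3_1 : Net := mkNet (nat_lit 96) [(nat_lit 48, (nat_lit 0)), (nat_lit 24, (nat_lit 0xe3c000e3c000800000800000)), (nat_lit 12, (nat_lit 0xf9cf80000000800800000000)), (nat_lit 6, (nat_lit 0x8a2d34000618a28c30000000)), (nat_lit 3, (nat_lit 0x824492000910e00000000380))] [((nat_lit 0x1201001240240009200200), nat_lit 1), ((nat_lit 0x10490080080482410000480), nat_lit 1), ((nat_lit 0x200000040240008000040), nat_lit 1)]
noncomputable def n3_2 : Net := mkNet (nat_lit 96) [(nat_lit 48, (nat_lit 0x210000000000210000000000)), (nat_lit 24, (nat_lit 0xa19220a19220000040400100)), (nat_lit 12, (nat_lit 0xc20c2d10d101e01e0c00c00)), (nat_lit 6, (nat_lit 0xaaac30f3c000080b2c000000)), (nat_lit 3, (nat_lit 0x23202091c924488808000600))] [((nat_lit 0x8201048208000200000240), nat_lit 1), ((nat_lit 0x92402080010400080), nat_lit 1), ((nat_lit 0x41200040000000000), nat_lit 1)]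
noncomputable def n3_3 : Net := mkNet (nat_lit 96) [(nat_lit 48, (nat_lit 0x800000000000800000000000)), (nat_lit 24, (nat_lit 0xd6ae40d6ac40e00000e00000)), (nat_lit 12, (nat_lit 0x5c05c940940f00f00000000)), (nat_lit 6, (nat_lit 0xc10104082410000e18000000)), (nat_lit 3, (nat_lit 0x900008836900d80018034000))] [((nat_lit 0x8040041001200209001000), nat_lit 1), ((nat_lit 0x402082010092480000002010), nat_lit 1), ((nat_lit 0x40000001200000001000), nat_lit 1)]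
noncomputable def n3_4 : Net := mkNet (nat_lit 96) [(nat_lit 48, (nat_lit 0x2200d62000002200d62000)), (nat_lit 24, (nat_lit 0x90004090004080200080200)), (nat_lit 12, (nat_lit 0xb10b1041c41c8508503e02e0)), (nat_lit 6, (nat_lit 0xa28820492820820082410610)), (nat_lit 3, (nat_lit 0x36900c24912012900212d00))] [((nat_lit 0x9048001049009041001040), nat_lit 1), ((nat_lit 0x82082012082010080000090), nat_lit 1), ((nat_lit 0x1040001041008040000040), nat_lit 1)]
noncomputable def n4_0 : Net := mkNet (nat_lit 20) [(nat_lit 10, (nat_lit 0x80200)), (nat_lit 5, (nat_lit 0x84000))] [((nat_lit 0x420), nat_lit 1), ((nat_lit 0x2800), nat_lit 1), ((nat_lit 0x400), nat_lit 1)]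
noncomputable def n4_1 : Net := mkNet (nat_lit 20) [(nat_lit 10, (nat_lit 0xc0300)), (nat_lit 5, (nat_lit 0xc6000))] [((nat_lit 0x1000), nat_lit 1), ((nat_lit 0x2840), nat_lit 1), ((nat_lit 0x1400), nat_lit 1), ((nat_lit 0x2800), nat_lit 1), ((nat_lit 0x1000), nat_lit 1)]
noncomputable def n4_2 : Net := mkNet (nat_lit 20) [(nat_lit 10, (nat_lit 0)), (nat_lit 5, (nat_lit 0))] [((nat_lit 0x480), nat_lit 1), ((nat_lit 0x140), nat_lit 1), ((nat_lit 0x80), nat_lit 1)]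
noncomputable def n4_3 : Net := mkNet (nat_lit 20) [(nat_lit 10, (nat_lit 0)), (nat_lit 5, (nat_lit 0x62210))] [((nat_lit 0x20020), nat_lit 1), ((nat_lit 0x10140), nat_lit 1), ((nat_lit 0x20080), nat_lit 1), ((nat_lit 0x140), nat_lit 1), ((nat_lit 0x20), nat_lit 1)]
noncomputable def n5_0 : Net := mkNet (nat_lit 16) [(nat_lit 8, (nat_lit 0)), (nat_lit 4, (nat_lit 0x6400)), (nat_lit 2, (nat_lit 0x40a0))] [((nat_lit 0x40), nat_lit 1)]
noncomputable def n5_1 : Net := mkNet (nat_lit 16) [(nat_lit 8, (nat_lit 0)), (nat_lit 4, (nat_lit 0)), (nat_lit 2, (nat_lit 0xc00))] [((nat_lit 0x40), nat_lit 1)]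
noncomputable def n5_2 : Net := mkNet (nat_lit 16) [(nat_lit 8, (nat_lit 0xc0c0)), (nat_lit 4, (nat_lit 0xcc00)), (nat_lit 2, (nat_lit 0xc00))] [((nat_lit 0x4000), nat_lit 1)]
noncomputable def n6_0 : Net := mkNet (nat_lit 12) [(nat_lit 6, (nat_lit 0)), (nat_lit 3, (nat_lit 0x380))] [((nat_lit 0x200), nat_lit 1), ((nat_lit 0x480), nat_lit 1), ((nat_lit 0x40), nat_lit 1)]
noncomputable def n6_1 : Net := mkNet (nat_lit 12) [(nat_lit 6, (nat_lit 0)), (nat_lit 3, (nat_lit 0x700))] [((nat_lit 0x40), nat_lit 1), ((nat_lit 0x480), nat_lit 1), ((nat_lit 0x200), nat_lit 1)]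
noncomputable def nets0 : List Net := [n0_0, n0_1, n0_2, n0_3, n0_4, n0_5, n0_6, n0_7, n0_8]
noncomputable def nets1 : List Net := [n0_0, n0_2, n0_3, n0_4, n0_5, n0_6, n0_7, n0_8, n1_8]
def ws1 : List (List ℕ) := [[0],
  [2],
  [3],
  [4],
  [5],
  [6],
  [7],
  [8],
  [0, 1, 2, 3, 4, 7, 0, 1, 2, 3, 4, 7, 0, 1, 2, 3, 4, 7, 0, 1, 2, 3, 4, 7, 0, 1, 2, 3, 4, 7]]
noncomputable def nets2 : List Net := [n2_0, n2_1, n2_2, n2_3, n2_4, n2_5, n2_6]
def ws2 : List (List ℕ) := [[2],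
  [3],
  [4],
  [5],
  [6],
  [7],
  [8]]
noncomputable def nets3 : List Net := [n3_0, n3_1, n3_2, n3_3, n3_4]
def ws3 : List (List ℕ) := [[4, 0, 1, 6, 3, 6, 0, 4, 3],
  [6],
  [5],
  [3],
  [2]]
noncomputable def nets4 : List Net := [n4_0, n4_1, n4_2, n4_3]
def ws4 : List (List ℕ) := [[4, 0, 4],
  [1],
  [2],
  [3]]
noncomputable def nets5 : List Net := [n5_0, n5_1, n5_2]
def ws5 : List (List ℕ) := [[0],
  [1],
  [2]]
noncomputable def nets6 : List Net := [n6_0, n6_1]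
def ws6 : List (List ℕ) := [[1],
  [2]]
def sig : List (List ℕ) := [[0],
  [1],
  [2],
  [3],
  [4],
  [5],
  [6],
  [7],
  [8]]
def eqs0 : List (List ℕ × List ℕ) := [([0, 0], []),
  ([1, 1], []),
  ([2, 2], []),
  ([3, 3], []),
  ([4, 4], []),
  ([5, 5], []),
  ([6, 6], []),
  ([7, 7], []),
  ([8, 8], []),
  ([0, 1, 0], [1, 0, 1]),
  ([0, 2], [2, 0]),
  ([0, 3], [3, 0]),
  ([0, 4], [4, 0]),
  ([0, 5], [5, 0]),
  ([0, 6], [6, 0]),
  ([0, 7], [7, 0]),
  ([0, 8], [8, 0]),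
  ([1, 2, 1], [2, 1, 2]),
  ([1, 3], [3, 1]),
  ([1, 4], [4, 1]),
  ([1, 5], [5, 1]),
  ([1, 6], [6, 1]),
  ([1, 7], [7, 1]),
  ([1, 8], [8, 1]),
  ([2, 3, 2], [3, 2, 3]),
  ([2, 4], [4, 2]),
  ([2, 5], [5, 2]),
  ([2, 6], [6, 2]),
  ([2, 7], [7, 2]),
  ([2, 8], [8, 2]),
  ([3, 4, 3], [4, 3, 4]),
  ([3, 5], [5, 3]),
  ([3, 6], [6, 3]),
  ([3, 7, 3], [7, 3, 7]),
  ([3, 8], [8, 3]),
  ([4, 5, 4], [5, 4, 5]),
  ([4, 6], [6, 4]),
  ([4, 7], [7, 4]),
  ([4, 8], [8, 4]),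
  ([5, 6, 5], [6, 5, 6]),
  ([5, 7], [7, 5]),
  ([5, 8], [8, 5]),
  ([6, 7], [7, 6]),
  ([6, 8], [8, 6]),
  ([7, 8, 7], [8, 7, 8]),
  ([3, 2, 1, 3, 4, 5, 3, 7, 8, 3, 2, 1, 3, 4, 5, 3, 7, 8, 3, 2, 1, 3, 4, 5, 3, 7, 8, 3, 2, 1, 3, 4, 5, 3, 7, 8, 3, 2, 1, 3, 4, 5, 3, 7, 8], [8, 7, 3, 5, 4, 3, 1, 2, 3, 8, 7, 3, 5, 4, 3, 1, 2, 3, 8, 7, 3, 5, 4, 3, 1, 2, 3, 8, 7, 3, 5, 4, 3, 1, 2, 3, 8, 7, 3, 5, 4, 3, 1, 2, 3]),
  ([0, 1, 2, 3, 4, 5, 7, 0, 1, 2, 3, 4, 5, 7, 0, 1, 2, 3, 4, 5, 7, 0, 1, 2, 3, 4, 5, 7, 0, 1, 2, 3], [7, 5, 4, 3, 2, 1, 0, 7, 5, 4, 3, 2, 1, 0, 7, 5, 4, 3, 2, 1, 0, 7, 5, 4, 3, 2, 1, 0, 7, 5, 4]),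
  ([1, 2, 3, 4, 5, 6, 7, 1, 2, 3, 4, 5, 6, 7, 1, 2, 3, 4, 5, 6, 7, 1, 2, 3, 4, 5, 6, 7, 1, 2, 3, 4], [7, 6, 5, 4, 3, 2, 1, 7, 6, 5, 4, 3, 2, 1, 7, 6, 5, 4, 3, 2, 1, 7, 6, 5, 4, 3, 2, 1, 7, 6, 5])]
def eqs : List (List ℕ × List ℕ) := eqs0
def lU : List (ℕ × ℕ) := [(0, 14), (16, 2), (20, 67), (96, 45), (160, 3382)]
noncomputable def U : ℕ := ivls lU
def l1 : List (ℕ × ℕ) := [(1, 1), (160, 2815)]
noncomputable def S1 : ℕ := ivls l1
def w1 : List ℕ := [1]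
def l2 : List (ℕ × ℕ) := [(2, 12), (16, 2), (20, 67), (96, 45), (2975, 567)]
noncomputable def S2 : ℕ := ivls l2
def w2 : List ℕ := [1, 2, 0, 1]
noncomputable def J : List (List ℕ × ℕ × ℕ) := [(w1, 1, S1), (w2, 2975, S2)]
def lBig : List (ℕ × ℕ) := [(1, 1), (160, 2815)]
noncomputable def J2 : List (List ℕ × ℕ × ℕ) := [([2, 3, 0, 3, 0], 1, S1)]
noncomputable def J1 : List (List ℕ × ℕ × ℕ) := [([0], 1, S1)]
def ex : List (List ℕ) := [[5, 7, 1, 6, 3, 2, 8, 4]]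
def bs' : List ℕ := [0, 1, 2, 3, 4, 5, 6]
end CfH6.F22A
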